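import Groth.Agent.RedSub.K209.CartanSch
import Groth.Agent.Books.AffBridge2
import Groth.Agent.GIT.K687.HMCore
import Groth.Agent.AGF.K499.SepSplit
import Groth.Agent.Sga3B.AlgBc2
import Groth.Prelude.Def_CoactBr

/-!
# The Cartan decomposition of a reductive Hopf algebra

`cartan_hopf`: `A` a Hopf algebra of finite type over an algebraically closed field `k`, `Spec A`
connected reductive, `O` a discrete valuation ring over `k` with fraction field `K`, `π` a
uniformiser.  Every `K`-point of `Spec A` is `a · λ(π) · b`, `a`, `b` points over `O`, `λ` a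
one-parameter subgroup.
-/

set_option autoImplicit false
set_option linter.unusedSectionVars false
universe u

open CategoryTheory MonoidalCategory CartesianMonoidalCategory MonObj GrpObj AlgebraicGeometry
open TensorProduct LaurentPolynomial

namespace K209.Dict

open Groth.Agent.Books.AffBridge Groth.Agent.Sga3B Groth.Agent.Sga3B.PinMod
open Groth.Agent.Sga3B.Cell (TPt)
open Groth.Agent.Sga3B.DSPts
open Groth.Agent.RedSub.H660.Iwasawa (inc)

section points

variable {k : Type u} [CommRing k] {A : Type u} [CommRing A] [HopfAlgebra k A]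
  {B C : Type u} [CommRing B] [Algebra k B] [CommRing C] [Algebra k C]

/-- two spellings of `Spec B` over `Spec k` -/
noncomputable def tau (k : Type u) [CommRing k] (B : Type u) [CommRing B] [Algebra k B] :
    SpecOver k B ≅ tB (𝟙 (Spec (CommRingCat.of k))) B :=
  Over.isoMk (Iso.refl _) (by
    change 𝟙 _ ≫ Spec.map (CommRingCat.ofHom (algebraMap k B)) ≫ 𝟙 _ =
      Spec.map (CommRingCat.ofHom (algebraMap k B))
    rw [Category.id_comp, Category.comp_id])

/-- a scheme point as a Hopf point -/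
noncomputable def ofSch (x : tB (𝟙 (Spec (CommRingCat.of k))) B ⟶ SpecOver k A) : K687.Pt k A B :=
  K687.Pt.mk (specPreimage k ((tau k B).hom ≫ x))

/-- a Hopf point as a scheme point -/
noncomputable def toSch (g : K687.Pt k A B) : tB (𝟙 (Spec (CommRingCat.of k))) B ⟶ SpecOver k A :=
  (tau k B).inv ≫ specMap k g.hom

lemma specMap_ofSch (x : tB (𝟙 (Spec (CommRingCat.of k))) B ⟶ SpecOver k A) :
    specMap k (ofSch x).hom = (tau k B).hom ≫ x := specMap_specPreimage k _

lemma ofSch_toSch (g : K687.Pt k A B) : ofSch (toSch g) = g := by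
  apply K687.Pt.ext
  intro a
  have h := specMap_ofSch (toSch g)
  rw [toSch, Iso.hom_inv_id_assoc] at h
  exact DFunLike.congr_fun (specMap_injective k h) a

lemma specMap_mul' (g h : K687.Pt k A B) : specMap k (g * h).hom = specMap k g.hom * specMap k h.hom := by
  have h1 := specMap_mul k g.toWC h.toWC
  rw [← K687.Pt.toWC_mul] at h1
  exact h1

lemma specMap_one' : specMap k (1 : K687.Pt k A B).hom = 1 := by
  have h1 := specMap_one k (A := A) (R := B)
  rw [← K687.Pt.toWC_one] at h1
  exact h1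

lemma ofSch_mul (x y : tB (𝟙 (Spec (CommRingCat.of k))) B ⟶ SpecOver k A) :
    ofSch (x * y) = ofSch x * ofSch y := by
  apply K687.Pt.ext
  intro a
  refine DFunLike.congr_fun (specMap_injective k ?_) a
  rw [specMap_mul', specMap_ofSch, specMap_ofSch, specMap_ofSch, comp_mul]

lemma ofSch_one : ofSch (1 : tB (𝟙 (Spec (CommRingCat.of k))) B ⟶ SpecOver k A) = 1 := by
  apply K687.Pt.ext
  intro a
  refine DFunLike.congr_fun (specMap_injective k ?_) a
  rw [specMap_one', specMap_ofSch, comp_one]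

lemma ofSch_nat (φ : B →ₐ[k] C) (x : tB (𝟙 (Spec (CommRingCat.of k))) B ⟶ SpecOver k A) :
    ofSch (tMap _ φ ≫ x) = K687.Pt.bc φ (ofSch x) := by
  apply K687.Pt.ext
  intro a
  refine DFunLike.congr_fun (specMap_injective k ?_) a
  rw [specMap_ofSch]
  change _ = specMap k (φ.comp (ofSch x).hom)
  rw [specMap_comp, specMap_ofSch, ← Category.assoc, ← Category.assoc]
  congr 1

end points

section torus

variable {k : Type u} [CommRing k] {A : Type u} [CommRing A] [HopfAlgebra k A]
  (D : Red.SplitRed (SpecOver k A))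
  {B C : Type u} [CommRing B] [Algebra k B] [CommRing C] [Algebra k C]

/-- the split torus on Hopf points -/
noncomputable def FT (B : Type u) [CommRing B] [Algebra k B] : TPt D.M B →* K687.Pt k A B where
  toFun t := ofSch (dsEquiv (tB (𝟙 (Spec (CommRingCat.of k))) B) D.M (chΓ _ t) ≫ Chart.j D)
  map_one' := by
    rw [chΓ_one, map_one, MonObj.one_comp, ofSch_one]
  map_mul' t t' := by
    rw [chΓ_mul, map_mul, MonObj.mul_comp, ofSch_mul]

lemma FT_nat (φ : B →ₐ[k] C) (t : TPt D.M B) : K687.Pt.bc φ (FT D B t) = FT D C (TPt.map φ t) := by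
  change K687.Pt.bc φ (ofSch _) = ofSch _
  rw [← ofSch_nat, ← Category.assoc, tMap_dsEquiv]

/-- `T` as a unit -/
noncomputable def uT (k : Type u) [CommRing k] : (k[T;T⁻¹])ˣ where
  val := T 1
  inv := T (-1)
  val_inv := by rw [← T_add]; simp
  inv_val := by rw [← T_add]; simp

lemma cow_one {M : Type} [AddCommGroup M] (y : Module.Dual ℤ M) :
    TPt.cow y (1 : Bˣ) = 1 := by
  ext m
  simp [TPt.cow]

lemma cow_mul {M : Type} [AddCommGroup M] (y : Module.Dual ℤ M) (v w : Bˣ) :
    TPt.cow y (v * w) = TPt.cow y v * TPt.cow y w := by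
  ext m
  simp [TPt.cow, mul_zpow]

lemma FT_cow_mul (y : Module.Dual ℤ D.M) (v w : Bˣ) :
    FT D B (TPt.cow y (v * w)) = FT D B (TPt.cow y v) * FT D B (TPt.cow y w) := by
  rw [cow_mul, map_mul]

lemma FT_cow_one (y : Module.Dual ℤ D.M) : FT D B (TPt.cow y (1 : Bˣ)) = 1 := by
  rw [cow_one, map_one]

/-- the one-parameter subgroup of a cocharacter -/
noncomputable def lamOf (y : Module.Dual ℤ D.M) : A →ₐc[k] k[T;T⁻¹] :=
  K687.mkLam (FT D k[T;T⁻¹] (TPt.cow y (uT k)))
    (by
      rw [FT_nat, TPt.map_cow]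
      have : Units.map (Bialgebra.counitAlgHom k k[T;T⁻¹] : k[T;T⁻¹] →* k) (uT k) = 1 := by
        apply Units.ext
        change Coalgebra.counit (R := k) (T 1 : k[T;T⁻¹]) = 1
        simp
      rw [this, FT_cow_one])
    (by
      rw [FT_nat, FT_nat, FT_nat, TPt.map_cow, TPt.map_cow, TPt.map_cow]
      rw [← FT_cow_mul]
      congr 2
      apply Units.ext
      change Coalgebra.comul (R := k) (T 1 : k[T;T⁻¹]) = _
      rw [Units.val_mul]
      change _ = ((T 1 : k[T;T⁻¹]) ⊗ₜ[k] (1 : k[T;T⁻¹])) * ((1 : k[T;T⁻¹]) ⊗ₜ[k] (T 1 : k[T;T⁻¹]))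
      rw [Algebra.TensorProduct.tmul_mul_tmul, _root_.mul_one, _root_.one_mul]
      exact LaurentPolynomial.comul_T 1)

lemma evU_lamOf (y : Module.Dual ℤ D.M) (v : Bˣ) :
    K687.Pt.mk ((K687.evU k v).comp (lamOf D y : A →ₐ[k] k[T;T⁻¹])) = FT D B (TPt.cow y v) := by
  have h1 : K687.Pt.mk ((K687.evU k v).comp (lamOf D y : A →ₐ[k] k[T;T⁻¹])) =
      K687.Pt.bc (K687.evU k v) (K687.lamPt (lamOf D y)) := rfl
  rw [h1, lamOf, K687.lamPt_mkLam, FT_nat, TPt.map_cow]
  congr 2
  apply Units.ext
  change K687.evU k v (T 1) = v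
  rw [K687.evU_T, zpow_one]

end torus

section dvr

variable {k : Type u} [CommRing k] {M : Type} [AddCommGroup M] [Module.Free ℤ M] [Module.Finite ℤ M]
  {O K : Type u} [CommRing O] [IsDomain O] [IsDiscreteValuationRing O] [Algebra k O]
  [Field K] [Algebra k K] [Algebra O K] [IsFractionRing O K] [IsScalarTower k O K]

/-- torus points over the fraction field of a discrete valuation ring -/
lemma exists_torus_dvr (π : O) (hπ : Irreducible π) (u : Kˣ) (hu : (u : K) = algebraMap O K π)
    (t : TPt M K) : ∃ (y : Module.Dual ℤ M) (w : TPt M O), t = TPt.cow y u * TPt.map (inc k O K) w := by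
  have key : ∀ z : Kˣ, ∃ (n : ℤ) (w : Oˣ), (z : K) = ((u ^ n : Kˣ) : K) * algebraMap O K w := by
    intro z
    obtain ⟨x, y, hy, hxy⟩ := IsFractionRing.div_surjective (A := O) (z : K)
    have hy0 : y ≠ 0 := nonZeroDivisors.ne_zero hy
    have hx0 : x ≠ 0 := by
      rintro rfl
      rw [map_zero, zero_div] at hxy
      exact z.ne_zero hxy.symm
    obtain ⟨m, a, rfl⟩ := IsDiscreteValuationRing.eq_unit_mul_pow_irreducible hx0 hπ
    obtain ⟨n, b, rfl⟩ := IsDiscreteValuationRing.eq_unit_mul_pow_irreducible hy0 hπ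
    refine ⟨(m : ℤ) - n, a * b⁻¹, ?_⟩
    have hinv : algebraMap O K ((b⁻¹ : Oˣ) : O) = (algebraMap O K (b : O))⁻¹ := by
      apply eq_inv_of_mul_eq_one_left
      rw [← map_mul, Units.inv_mul, map_one]
    have hu0 : (u : K) ≠ 0 := u.ne_zero
    have hb0 : algebraMap O K (b : O) ≠ 0 := by
      rw [Ne, (IsFractionRing.injective O K).eq_iff' (map_zero _)]
      exact b.ne_zero
    rw [← hxy, zpow_sub, Units.val_mul, Units.val_mul, map_mul, map_mul, map_mul, map_pow, map_pow, hinv, ← hu,
      zpow_natCast, zpow_natCast, Units.val_inv_eq_inv_val, Units.val_pow_eq_pow_val,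
      Units.val_pow_eq_pow_val]
    field_simp
  let e := Module.Free.chooseBasis ℤ M
  choose n w hnw using fun i => key (t (Multiplicative.ofAdd (e i)))
  obtain ⟨w', hw'⟩ := Cartan.exists_TPt e w
  let y : Module.Dual ℤ M := e.constr ℤ n
  refine ⟨y, w', Cartan.TPt_ext e fun i => ?_⟩
  apply Units.ext
  rw [hnw]
  change _ = ((u ^ (y (e i)) : Kˣ) : K) * algebraMap O K (w' (Multiplicative.ofAdd (e i)) : O)
  rw [hw']
  have : y (e i) = n i := e.constr_basis ℤ n i
  rw [this]

end dvr

/-- **Cartan decomposition** for a reductive Hopf algebra over a discrete valuation ring. -/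
theorem cartan_hopf {k : Type u} [Field k] [IsAlgClosed k] {A : Type u} [CommRing A] [HopfAlgebra k A]
    (hG : Red.IsReductiveOver k (CoactBr.sp k A))
    {O K : Type u} [CommRing O] [IsDomain O] [IsDiscreteValuationRing O] [Algebra k O]
    [Field K] [Algebra k K] [Algebra O K] [IsFractionRing O K] [IsScalarTower k O K]
    (π : O) (hπ : Irreducible π) (u : Kˣ) (hu : (u : K) = algebraMap O K π) (g : K687.Pt k A K) :
    ∃ (a b : K687.Pt k A O) (lam : A →ₐc[k] k[T;T⁻¹]),
      g = K687.Pt.bc (IsScalarTower.toAlgHom k O K) a *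
        K687.Pt.mk ((K687.evU k u).comp (lam : A →ₐ[k] k[T;T⁻¹])) *
        K687.Pt.bc (IsScalarTower.toAlgHom k O K) b := by
  have hG' : Red.IsReductive (SpecOver k A) := AlgBc.isReductive_iff.2 hG
  obtain ⟨D⟩ := K499.SepSplit.exists_splitRed k (SpecOver k A) hG'
  have hk : Infinite k := inferInstance
  have hres : Infinite (IsLocalRing.ResidueField O) :=
    Infinite.of_injective _ (algebraMap k (IsLocalRing.ResidueField O)).injective
  obtain ⟨k₁, k₂, t, h⟩ := CartanSch.cartan_split D (𝟙 (Spec (CommRingCat.of k))) (V := O) (toSch g)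
  obtain ⟨y, w, rfl⟩ := exists_torus_dvr (k := k) π hπ u hu t
  refine ⟨ofSch k₁, FT D O w * ofSch k₂, lamOf D y, ?_⟩
  rw [evU_lamOf, map_mul, FT_nat, ← ofSch_toSch g, h, ofSch_mul, ofSch_mul, ofSch_nat, ofSch_nat]
  change _ * FT D K _ * _ = _
  rw [map_mul]
  simp only [_root_.mul_assoc]
  rfl

end K209.Dict
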