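import Groth.Agent.GIT.K209.Val
import Groth.Agent.Books.AffBridge2
import Groth.Agent.AlgGrp.K405.IsogGm

/-!
# Non-trivial one-parameter subgroups of affine groups over a field are proper
-/

set_option autoImplicit false
set_option linter.unusedSectionVars false
universe u

open CategoryTheory MonoidalCategory CartesianMonoidalCategory MonObj GrpObj AlgebraicGeometry
open TensorProduct LaurentPolynomial

namespace K209.GmProper

open Groth.Agent.Books.AffBridge Groth.Agent.Sga3B Groth.Agent.Sga3B.PinMod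
open Groth.Agent.Sga3B.Cell (TPt)
open Groth.Agent.Sga3B.DSPts
open Groth.Agent.RedSub.H660.Iwasawa (inc)
open K209.Dict K209.Val

section torus

variable {k : Type u} [CommRing k] {A : Type u} [CommRing A] [HopfAlgebra k A]
  {M : Type} [AddCommGroup M] (j : Red.DS (Spec (CommRingCat.of k)) M ⟶ SpecOver k A) [IsMonHom j]
  {B C : Type u} [CommRing B] [Algebra k B] [CommRing C] [Algebra k C]

/-- a split torus on Hopf points -/
noncomputable def FJ (B : Type u) [CommRing B] [Algebra k B] : TPt M B →* K687.Pt k A B where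
  toFun t := ofSch (dsEquiv (tB (𝟙 (Spec (CommRingCat.of k))) B) M (chΓ _ t) ≫ j)
  map_one' := by
    rw [chΓ_one, map_one, MonObj.one_comp, ofSch_one]
  map_mul' t t' := by
    rw [chΓ_mul, map_mul, MonObj.mul_comp, ofSch_mul]

lemma FJ_apply (t : TPt M B) :
    FJ j B t = ofSch (dsEquiv (tB (𝟙 (Spec (CommRingCat.of k))) B) M (chΓ _ t) ≫ j) := rfl

lemma FJ_nat (φ : B →ₐ[k] C) (t : TPt M B) : K687.Pt.bc φ (FJ j B t) = FJ j C (TPt.map φ t) := by
  change K687.Pt.bc φ (ofSch _) = ofSch _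
  rw [← ofSch_nat, ← Category.assoc, tMap_dsEquiv]

lemma FJ_cow_mul (y : Module.Dual ℤ M) (v w : Bˣ) :
    FJ j B (TPt.cow y (v * w)) = FJ j B (TPt.cow y v) * FJ j B (TPt.cow y w) := by
  rw [cow_mul, map_mul]

lemma FJ_cow_one (y : Module.Dual ℤ M) : FJ j B (TPt.cow y (1 : Bˣ)) = 1 := by
  rw [cow_one, map_one]

/-- the one-parameter subgroup of a cocharacter -/
noncomputable def lamJ (y : Module.Dual ℤ M) : A →ₐc[k] k[T;T⁻¹] :=
  K687.mkLam (FJ j k[T;T⁻¹] (TPt.cow y (uT k)))
    (by
      rw [FJ_nat, TPt.map_cow]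
      have : Units.map (Bialgebra.counitAlgHom k k[T;T⁻¹] : k[T;T⁻¹] →* k) (uT k) = 1 := by
        apply Units.ext
        change Coalgebra.counit (R := k) (T 1 : k[T;T⁻¹]) = 1
        simp
      rw [this, FJ_cow_one])
    (by
      rw [FJ_nat, FJ_nat, FJ_nat, TPt.map_cow, TPt.map_cow, TPt.map_cow]
      rw [← FJ_cow_mul]
      congr 2
      apply Units.ext
      change Coalgebra.comul (R := k) (T 1 : k[T;T⁻¹]) = _
      rw [Units.val_mul]
      change _ = ((T 1 : k[T;T⁻¹]) ⊗ₜ[k] (1 : k[T;T⁻¹])) * ((1 : k[T;T⁻¹]) ⊗ₜ[k] (T 1 : k[T;T⁻¹]))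
      rw [Algebra.TensorProduct.tmul_mul_tmul, _root_.mul_one, _root_.one_mul]
      exact LaurentPolynomial.comul_T 1)

lemma evU_lamJ (y : Module.Dual ℤ M) (v : Bˣ) :
    K687.Pt.bc (K687.evU k v) (K687.lamPt (lamJ j y)) = FJ j B (TPt.cow y v) := by
  rw [lamJ, K687.lamPt_mkLam, FJ_nat, TPt.map_cow]
  congr 2
  apply Units.ext
  change K687.evU k v (T 1) = v
  rw [K687.evU_T, zpow_one]

/-- points of `𝔾_m` are units -/
lemma eq_cow (t : TPt ℤ B) : t = TPt.cow LinearMap.id (t (Multiplicative.ofAdd 1)) := by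
  apply MonoidHom.ext
  intro m
  change t m = (t (Multiplicative.ofAdd 1)) ^ (m.toAdd)
  rw [← map_zpow, ← ofAdd_zsmul]
  simp

lemma ofSch_injective : Function.Injective
    (ofSch : (tB (𝟙 (Spec (CommRingCat.of k))) B ⟶ SpecOver k A) → K687.Pt k A B) := by
  intro x y h
  have h1 := specMap_ofSch x
  rw [h, specMap_ofSch] at h1
  exact ((cancel_epi _).1 h1).symm

end torus

section mono

variable {k : Type u} [Field k] {A : Type u} [CommRing A] [HopfAlgebra k A]

/-- a non-trivial one-parameter subgroup takes some function to a non-trivial monomial -/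
lemma exists_T_mem (lam : A →ₐc[k] k[T;T⁻¹]) (h : K687.lamPt lam ≠ 1) :
    ∃ (j : ℤ) (f : A), j ≠ 0 ∧ lam f = T j := by
  by_contra hcon
  push Not at hcon
  apply h
  have key : ∀ (f : A) (j : ℤ), j ≠ 0 → (lam f).coeff j = 0 := by
    intro f j hj
    by_contra hne
    -- the subcoalgebra argument
    have h1 : Coalgebra.comul (R := k) (lam f) =
        TensorProduct.map (lam : A →ₗ[k] k[T;T⁻¹]) (lam : A →ₗ[k] k[T;T⁻¹]) (Coalgebra.comul (R := k) f) :=
      (CoalgHomClass.map_comp_comul_apply lam f).symm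
    have h2 : ∀ z : A ⊗[k] A, TensorProduct.lid k _ (LinearMap.rTensor k[T;T⁻¹] (K687.lc k j)
        (TensorProduct.map (lam : A →ₗ[k] k[T;T⁻¹]) (lam : A →ₗ[k] k[T;T⁻¹]) z)) ∈
        LinearMap.range (lam : A →ₗ[k] k[T;T⁻¹]) := by
      intro z
      induction z using TensorProduct.induction_on with
      | zero => simp
      | tmul a b =>
        rw [TensorProduct.map_tmul, LinearMap.rTensor_tmul, TensorProduct.lid_tmul]
        exact Submodule.smul_mem _ _ ⟨b, rfl⟩
      | add x y hx hy => rw [map_add, map_add, map_add]; exact Submodule.add_mem _ hx hy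
    have h3 : ∀ p : k[T;T⁻¹], TensorProduct.lid k _ (LinearMap.rTensor k[T;T⁻¹] (K687.lc k j)
        (Coalgebra.comul (R := k) p)) = p.coeff j • (T j : k[T;T⁻¹]) := by
      intro p
      induction p using LaurentPolynomial.induction_on' with
      | add p q hp hq =>
        rw [map_add, map_add, map_add, hp, hq]
        rw [← add_smul]
        congr 1
      | C_mul_T n a =>
        rw [← LaurentPolynomial.smul_eq_C_mul, map_smul, map_smul, map_smul,
          LaurentPolynomial.comul_T, LinearMap.rTensor_tmul, TensorProduct.lid_tmul]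
        rw [K687.lc_T]
        by_cases hn : n = j
        · subst hn
          rw [if_pos rfl, one_smul]
          congr 1
          rw [← K687.lc_apply, map_smul, K687.lc_T, if_pos rfl, smul_eq_mul, _root_.mul_one]
        · rw [if_neg hn, zero_smul, smul_zero, ← K687.lc_apply, map_smul, K687.lc_T, if_neg hn, smul_zero,
            zero_smul]
    have h4 := h2 (Coalgebra.comul (R := k) f)
    rw [← h1, h3] at h4
    obtain ⟨g, hg⟩ := h4
    refine hcon j (((lam f).coeff j)⁻¹ • g) hj ?_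
    have h5 : lam g = (lam f).coeff j • (T j : k[T;T⁻¹]) := hg
    rw [map_smul, h5, smul_smul, inv_mul_cancel₀ hne, one_smul]
  apply K687.Pt.ext
  intro f
  rw [K687.Pt.one_apply]
  change lam f = algebraMap k k[T;T⁻¹] (Coalgebra.counit (R := k) f)
  have h1 : lam f = (lam f).coeff 0 • (T 0 : k[T;T⁻¹]) := by
    apply LaurentPolynomial.ext
    intro n
    have e : ((lam f).coeff 0 • (T 0 : k[T;T⁻¹])).coeff n = (lam f).coeff 0 * (if (0 : ℤ) = n then 1 else 0) := by
      rw [← K687.lc_apply (k := k) n, map_smul, K687.lc_T, smul_eq_mul]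
    rw [e]
    by_cases hn : n = 0
    · subst hn
      simp
    · rw [if_neg (Ne.symm hn), mul_zero]
      exact key f n hn
  have h2 : Coalgebra.counit (R := k) (lam f) = Coalgebra.counit (R := k) f :=
    CoalgHomClass.counit_comp_apply lam f
  have h3 : Coalgebra.counit (R := k) (lam f) = (lam f).coeff 0 := by
    conv_lhs => rw [h1]
    rw [map_smul, LaurentPolynomial.counit_T, smul_eq_mul, _root_.mul_one]
  rw [← h2, h3, Algebra.algebraMap_eq_smul_one, ← T_zero]
  exact h1

end mono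

section proper

variable {k : Type u} [Field k]

/-- if `t ^ j` and `t ^ (-j)` are integral, so is `t` -/
lemma exists_unit_of_zpow {O K : Type u} [CommRing O] [IsDomain O] [IsDiscreteValuationRing O]
    [Field K] [Algebra O K] [IsFractionRing O K] (t : Kˣ) (j : ℤ) (hj : j ≠ 0)
    (h1 : ∃ a : O, algebraMap O K a = ((t ^ j : Kˣ) : K))
    (h2 : ∃ a : O, algebraMap O K a = ((t ^ (-j) : Kˣ) : K)) :
    ∃ w : Oˣ, Units.map (algebraMap O K : O →* K) w = t := by
  have key : ∀ (z : K) (n : ℕ), n ≠ 0 → (∃ a : O, algebraMap O K a = z ^ n) →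
      ∃ a : O, algebraMap O K a = z := by
    intro z n hn ⟨a, ha⟩
    have hint : IsIntegral O z := IsIntegral.of_pow (Nat.pos_of_ne_zero hn) (ha ▸ isIntegral_algebraMap)
    exact IsIntegrallyClosed.isIntegral_iff.1 hint
  have key2 : ∀ n : ℕ, n ≠ 0 → (∃ a : O, algebraMap O K a = ((t ^ (n : ℤ) : Kˣ) : K)) →
      (∃ a : O, algebraMap O K a = ((t ^ (-(n : ℤ)) : Kˣ) : K)) →
      ∃ w : Oˣ, Units.map (algebraMap O K : O →* K) w = t := by
    intro n hn h1 h2
    obtain ⟨a, ha⟩ := key (t : K) n hn (by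
      obtain ⟨a, ha⟩ := h1
      exact ⟨a, by rw [ha, zpow_natCast, Units.val_pow_eq_pow_val]⟩)
    obtain ⟨b, hb⟩ := key ((t⁻¹ : Kˣ) : K) n hn (by
      obtain ⟨a, ha⟩ := h2
      exact ⟨a, by rw [ha, zpow_neg, zpow_natCast, ← inv_pow, Units.val_pow_eq_pow_val]⟩)
    have hab : a * b = 1 := by
      apply IsFractionRing.injective O K
      rw [map_mul, ha, hb, Units.mul_inv, map_one]
    refine ⟨⟨a, b, hab, by rw [mul_comm, hab]⟩, Units.ext ha⟩
  rcases lt_trichotomy j 0 with h | h | h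
  · obtain ⟨n, hn⟩ : ∃ n : ℕ, j = -(n : ℤ) := ⟨(-j).toNat, by omega⟩
    subst hn
    exact key2 n (by omega) (by rwa [neg_neg] at h2) h1
  · exact absurd h hj
  · obtain ⟨n, rfl⟩ : ∃ n : ℕ, j = (n : ℤ) := ⟨j.toNat, by omega⟩
    exact key2 n (by omega) h1 h2

variable {A : Type u} [CommRing A] [HopfAlgebra k A]

/-- if `λ(t)` is integral and `λ` is non-trivial, `t` is a unit -/
lemma exists_unit_of_lam (lam : A →ₐc[k] k[T;T⁻¹]) (hlam : K687.lamPt lam ≠ 1)
    {O K : Type u} [CommRing O] [IsDomain O] [IsDiscreteValuationRing O] [Algebra k O]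
    [Field K] [Algebra k K] [Algebra O K] [IsFractionRing O K] [IsScalarTower k O K] (t : Kˣ)
    (g : K687.Pt k A O) (h : K687.Pt.bc (K687.evU k t) (K687.lamPt lam) =
      K687.Pt.bc (IsScalarTower.toAlgHom k O K) g) :
    ∃ w : Oˣ, Units.map (algebraMap O K : O →* K) w = t := by
  obtain ⟨j, f, hj, hf⟩ := exists_T_mem lam hlam
  refine exists_unit_of_zpow t j hj ⟨g.hom f, ?_⟩ ⟨g⁻¹.hom f, ?_⟩
  · have h1 := congrArg (fun p : K687.Pt k A K => p.hom f) h
    have h2 : K687.evU k t (lam f) = algebraMap O K (g.hom f) := h1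
    rw [← h2, hf, K687.evU_T]
  · have h1 := congrArg (fun p : K687.Pt k A K => (p⁻¹).hom f) h
    rw [← map_inv, ← map_inv] at h1
    have h2 : K687.evU k t ((K687.lamPt lam)⁻¹.hom f) = algebraMap O K (g⁻¹.hom f) := h1
    rw [← h2]
    have h3 : (K687.lamPt lam)⁻¹.hom f = T (-j) := by
      change lam (HopfAlgebra.antipode k f) = _
      rw [← Groth.Agent.Books.AffBridge2.antipode_bialgHom_apply, hf, LaurentPolynomial.antipode_T]
    rw [h3, K687.evU_T]

end proper

section scheme

variable {k : Type u} [Field k]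

/-- affine schemes over `Spec k` as spectra of `k`-algebras -/
lemma exists_tB_iso (X : Over (Spec (CommRingCat.of k))) [IsAffine X.left] :
    ∃ (B : Type u) (_ : CommRing B) (_ : Algebra k B), Nonempty (tB (𝟙 (Spec (CommRingCat.of k))) B ≅ X) := by
  let B : Type u := Γ(X.left, ⊤)
  obtain ⟨φ, hφ⟩ : ∃ φ : k →+* B, Spec.map (CommRingCat.ofHom φ) = X.left.isoSpec.inv ≫ X.hom :=
    ⟨(Spec.preimage (X.left.isoSpec.inv ≫ X.hom)).hom, Spec.map_preimage _⟩
  let _ : Algebra k B := φ.toAlgebra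
  exact ⟨B, inferInstance, inferInstance, ⟨Over.isoMk X.left.isoSpec.symm (by
    change X.left.isoSpec.inv ≫ X.hom = Spec.map (CommRingCat.ofHom φ) ≫ 𝟙 _
    rw [hφ, Category.comp_id])⟩⟩

variable {A : Type u} [CommRing A] [HopfAlgebra k A]

/-- a homomorphism from `𝔾_m` is determined by its one-parameter subgroup -/
lemma eq_one_of_lam (l : Red.Gm (Spec (CommRingCat.of k)) ⟶ SpecOver k A) [IsMonHom l]
    (h : K687.lamPt (lamJ l LinearMap.id) = 1) : l = 1 := by
  have := K405.IsogGm.isAffine_Gm (k := k)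
  obtain ⟨B, _, _, ⟨q⟩⟩ := exists_tB_iso (Red.Gm (Spec (CommRingCat.of k)))
  obtain ⟨t, ht⟩ := exists_chΓ (𝟙 (Spec (CommRingCat.of k))) q.hom
  have h1 : ofSch (q.hom ≫ l) = 1 := by
    rw [ht]
    change FJ l B t = 1
    rw [eq_cow t, ← evU_lamJ, h, map_one]
  have h2 : q.hom ≫ l = 1 := ofSch_injective (h1.trans ofSch_one.symm)
  rw [← cancel_epi q.hom, h2, comp_one]

/-- **non-trivial one-parameter subgroups are proper** -/
theorem isProper_of_ne {G : Over (Spec (CommRingCat.of k))} [GrpObj G] [IsAffine G.left]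
    [LocallyOfFiniteType G.hom] (l : Red.Gm (Spec (CommRingCat.of k)) ⟶ G) [IsMonHom l]
    (h : l ≠ 1) : IsProper l.left := by
  have hGm := K405.IsogGm.isAffine_Gm (k := k)
  have hGf := K405.IsogGm.locallyOfFiniteType_Gm (k := k)
  obtain ⟨A, _, _, e, he⟩ := exists_hopf k G
  have hlam : K687.lamPt (lamJ (l ≫ e.hom) LinearMap.id) ≠ 1 := by
    intro h1
    apply h
    have h2 := eq_one_of_lam _ h1
    rw [← cancel_mono e.hom, h2, MonObj.one_comp]
  have hsep : IsSeparated G.hom := inferInstance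
  have haf : IsAffineHom l.left := inferInstance
  have hft : LocallyOfFiniteType l.left := by
    have : LocallyOfFiniteType (l.left ≫ G.hom) := by rw [Over.w]; infer_instance
    exact locallyOfFiniteType_of_comp l.left G.hom
  have hGn : IsLocallyNoetherian G.left := LocallyOfFiniteType.isLocallyNoetherian G.hom
  have huc : UniversallyClosed l.left := by
    apply Groth.Agent.Ega2.DVRCriterion.universallyClosed_of_DVRExistence
    apply dvrExistence_of
    intro O _ _ _ _ x y hxy
    obtain ⟨t, rfl⟩ := exists_chΓ (𝟙 (Spec (CommRingCat.of k))) x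
    have h1 : FJ (l ≫ e.hom) _ t = K687.Pt.bc (IsScalarTower.toAlgHom k O (FractionRing O))
        (ofSch (y ≫ e.hom)) := by
      rw [FJ_apply, ← Category.assoc, hxy, Category.assoc]
      exact ofSch_nat (inc k O (FractionRing O)) (y ≫ e.hom)
    obtain ⟨w, hw⟩ := exists_unit_of_lam _ hlam (t (Multiplicative.ofAdd 1)) _ (by
      rw [evU_lamJ, ← eq_cow, h1])
    have h2 : tMap (𝟙 (Spec (CommRingCat.of k))) (inc k O (FractionRing O)) ≫
        dsEquiv (tB (𝟙 (Spec (CommRingCat.of k))) O) ℤ (chΓ _ (TPt.cow LinearMap.id w)) =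
        dsEquiv (tB (𝟙 (Spec (CommRingCat.of k))) (FractionRing O)) ℤ (chΓ _ t) := by
      rw [tMap_dsEquiv, TPt.map_cow]
      congr 2
      conv_rhs => rw [eq_cow t, ← hw]
      rfl
    refine ⟨_, ?_, h2⟩
    apply eq_of_tMap (K := FractionRing O)
    rw [← Category.assoc, h2, hxy]
  exact {}

end scheme

end K209.GmProper
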