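import Groth.Agent.GIT.K209.Dict
import Groth.Agent.GIT.K687.HMGLn
import Groth.Agent.InvQ.K701.Orbit3
import Groth.Agent.GLin.K765.Closed

/-!
# The Hilbert-Mumford criterion for connected reductive groups in any characteristic
-/

set_option autoImplicit false
set_option linter.unusedSectionVars false
universe u

open TensorProduct LaurentPolynomial IsLocalRing

namespace K209.HMRed

open K687 K701.Orbit K701.Orbit2

variable {k : Type u} [Field k] [IsAlgClosed k] {A : Type u} [CommRing A] [HopfAlgebra k A]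
  [Algebra.FiniteType k A] {R : Type u} [CommRing R] [Algebra k R]
  [HopfRep.Comod k A R] [GLin.IsCoactAlg k A R]

/-- stable ideals, two spellings -/
lemma isStable_of_isSubcomod {I : Ideal R}
    (hI : HopfRep.IsSubcomod (k := k) (A := A) (I.restrictScalars k)) : IsStable (k := k) A I := by
  intro f hf
  obtain ⟨t, ht⟩ := hI f hf
  rw [← ht]
  clear ht
  induction t using TensorProduct.induction_on with
  | zero => rw [map_zero]; exact Ideal.zero_mem _
  | tmul r a =>
    rw [LinearMap.rTensor_tmul]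
    have h1 : (r : R) ⊗ₜ[k] a = ((1 : R) ⊗ₜ[k] a) *
        (Algebra.TensorProduct.includeLeft : R →ₐ[k] R ⊗[k] A) (r : R) := by
      rw [Algebra.TensorProduct.includeLeft_apply, Algebra.TensorProduct.tmul_mul_tmul, one_mul, mul_one]
    change (r : R) ⊗ₜ[k] a ∈ _
    rw [h1]
    exact Ideal.mul_mem_left _ _ (Ideal.mem_map_of_mem _ r.2)
  | add x y hx hy => rw [map_add]; exact Ideal.add_mem _ hx hy

/-- Hilbert-Mumford with a discrete valuation ring. -/
theorem hm_dvr (hG : Red.IsReductiveOver k (CoactBr.sp k A)) {O : Type u} [CommRing O] [IsDomain O]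
    [IsDiscreteValuationRing O] [Algebra k O]
    {K : Type u} [Field K] [Algebra k K] [Algebra O K] [IsFractionRing O K] [IsScalarTower k O K]
    (I : Ideal R) (hI : IsStable (k := k) A I) (x : R →ₐ[k] k)
    (g : Pt k A K) (h : R →ₐ[k] O)
    (hgh : (IsScalarTower.toAlgHom k O K).comp h = mv ((Algebra.ofId k K).comp x) g)
    (hhI : ∀ f ∈ I, h f ∈ maximalIdeal O) :
    ∃ (lam : A →ₐc[k] k[T;T⁻¹]) (y : R →ₐ[k] k), GLin.IsLimit k A lam x y ∧ ∀ f ∈ I, y f = 0 := by
  obtain ⟨π, hπ⟩ := IsDiscreteValuationRing.exists_irreducible O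
  have hinj : Function.Injective (IsScalarTower.toAlgHom k O K) := IsFractionRing.injective O K
  have hπK : algebraMap O K π ≠ 0 := by
    intro h
    exact hπ.ne_zero (hinj (by rw [map_zero]; exact h))
  obtain ⟨a, b, lam, hg⟩ := Dict.cartan_hopf hG π hπ (Units.mk0 _ hπK) rfl g
  obtain ⟨a₀, y, hy, hyI⟩ := hm_core (IsScalarTower.toAlgHom k O K) hinj I hI x g h hgh hhI a b lam π
    ((IsDiscreteValuationRing.irreducible_iff_uniformizer π).mp hπ ▸ Ideal.mem_span_singleton_self π)
    (Units.mk0 _ hπK) rfl hg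
  exact ⟨conj a₀ lam, y, hy, hyI⟩

/-- Hilbert-Mumford for connected reductive groups: if the zero set of a stable ideal `I` meets the
orbit closure of `x` in a rational point, then some one-parameter subgroup moves `x` to a limit in
the zero set. -/
theorem hm [Algebra.FiniteType k R] (hG : Red.IsReductiveOver k (CoactBr.sp k A))
    (I : Ideal R) (hI : IsStable (k := k) A I) (x z : R →ₐ[k] k)
    (hz : GLin.InOrbitClosure k A x z) (hzI : ∀ f ∈ I, z f = 0) :
    ∃ (lam : A →ₐc[k] k[T;T⁻¹]) (y : R →ₐ[k] k), GLin.IsLimit k A lam x y ∧ ∀ f ∈ I, y f = 0 := by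
  rcases exists_dvr_point (GLin.orbitHom k A x) z hz with ⟨g, hg⟩ |
    ⟨O, i1, i2, i3, i4, K, j1, j2, j3, j4, j5, g, h, hgh, hh⟩
  · -- `z` is in the orbit, so `x` is in the zero set
    obtain ⟨lam, _, hlam⟩ := exists_trivial_limit (A := A) x
    refine ⟨lam, x, hlam, ?_⟩
    have hgz : mv x (Pt.mk g) = z := by
      have := comp_orbitHom x (Pt.mk g)
      rw [ofId_self_comp] at this
      rw [← this]
      exact hg
    have hx : mv z (Pt.mk g)⁻¹ = x := by
      rw [← hgz, mv_mul, mul_inv_cancel, mv_one]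
    intro f hf
    rw [← hx]
    exact mv_mem_of_stable hI ⊥ z hzI _ f hf
  · exact hm_dvr (O := O) (K := K) hG I hI x (Pt.mk g) h (by
      rw [hgh]
      exact comp_orbitHom x (Pt.mk g)) (fun f hf => hh f (hzI f hf))

/-- every orbit closure of a connected reductive group has a point with closed orbit which is the
limit along a one-parameter subgroup -/
theorem exists_limit_closed [Algebra.FiniteType k R] (hG : Red.IsReductiveOver k (CoactBr.sp k A))
    (x : R →ₐ[k] k) : ∃ (lam : A →ₐc[k] k[T;T⁻¹]) (y : R →ₐ[k] k),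
      GLin.IsLimit k A lam x y ∧ GLin.IsClosedOrbit k A y := by
  have hne : RingHom.ker (GLin.orbitHom k A x) ≠ ⊤ := by
    intro h
    have h1 : (1 : R) ∈ RingHom.ker x := ker_orbitHom_le_ker (A := A) x (by rw [h]; trivial)
    rw [RingHom.mem_ker, map_one] at h1
    exact one_ne_zero h1
  obtain ⟨z, hz, hcl⟩ := exists_closed_orbit (A := A) (RingHom.ker (GLin.orbitHom k A x))
    (isSubcomod_ker_orbitHom x) hne
  let I : Ideal R := RingHom.ker (GLin.orbitHom k A z)
  obtain ⟨lam, y, hy, hyI⟩ := hm (A := A) hG I (isStable_of_isSubcomod (isSubcomod_ker_orbitHom z)) x z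
    (fun f hf => hz f hf) (fun f hf => ker_orbitHom_le_ker (A := A) z hf)
  refine ⟨lam, y, hy, K765.Closed.isClosedOrbit_of_closedOrb ?_⟩
  obtain ⟨g, rfl⟩ := hcl y hyI
  intro w hw
  rw [ker_orbitHom_actPt] at hw
  obtain ⟨g', rfl⟩ := hcl w hw
  exact exists_actPt_eq_of_ker_eq _ _ (by rw [ker_orbitHom_actPt, ker_orbitHom_actPt])

end K209.HMRed
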