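import Groth.Agent.GIT.K209.GmProper
import Groth.Agent.Sga3B.PinTransport
import Groth.Agent.Sga3C.SchemImage
import Groth.Prelude.Def_ChGrp
import Groth.Prelude.Def_W4bk4git07Quot

/-!
# Properness of actions of reductive groups and their one-parameter subgroups
-/

set_option autoImplicit false
set_option linter.unusedSectionVars false
universe u

open CategoryTheory MonoidalCategory CartesianMonoidalCategory MonObj GrpObj AlgebraicGeometry

namespace K209.PsiProper

open Groth.Agent.Sga3B Groth.Agent.Sga3B.PinMod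
open Groth.Agent.Sga3B.Cell (TPt)
open Groth.Agent.Sga3B.DSPts
open Groth.Agent.RedSub.H660.Iwasawa (inc)
open K209.Dict K209.Val K209.GmProper

section cartan

variable {k : Type u} [Field k] [IsAlgClosed k]
  {G : Over (Spec (CommRingCat.of k))} [GrpObj G]

/-- **Cartan decomposition** with one-parameter subgroups, scheme form. -/
theorem cartan_sch (hG : Red.IsReductive G)
    {O K : Type u} [CommRing O] [IsDomain O] [IsDiscreteValuationRing O] [Algebra k O]
    [Field K] [Algebra k K] [Algebra O K] [IsFractionRing O K] [IsScalarTower k O K]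
    (π : O) (hπ : Irreducible π) (u : Kˣ) (hu : (u : K) = algebraMap O K π)
    (g : tB (𝟙 (Spec (CommRingCat.of k))) K ⟶ G) :
    ∃ (l : Red.Gm (Spec (CommRingCat.of k)) ⟶ G) (_ : IsMonHom l)
      (k₁ k₂ : tB (𝟙 (Spec (CommRingCat.of k))) O ⟶ G),
      g = (tMap _ (inc k O K) ≫ k₁) *
        (dsEquiv (tB (𝟙 (Spec (CommRingCat.of k))) K) ℤ (chΓ _ (TPt.cow LinearMap.id u)) ≫ l) *
        (tMap _ (inc k O K) ≫ k₂) := by
  obtain ⟨D⟩ := K499.SepSplit.exists_splitRed k G hG
  have hk : Infinite k := inferInstance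
  have hres : Infinite (IsLocalRing.ResidueField O) :=
    Infinite.of_injective _ (algebraMap k (IsLocalRing.ResidueField O)).injective
  obtain ⟨k₁, k₂, t, h⟩ := CartanSch.cartan_split D (𝟙 (Spec (CommRingCat.of k))) (V := O) g
  obtain ⟨y, w, rfl⟩ := exists_torus_dvr (k := k) π hπ u hu t
  have hmon : IsMonHom (Red.DSmap (Spec (CommRingCat.of k)) y.toAddMonoidHom) := Groth.Agent.Sga3B.PinTransport.isMonHom_DSmap _
  refine ⟨Red.DSmap _ y.toAddMonoidHom ≫ Chart.j D, inferInstance, k₁,
    (dsEquiv (tB (𝟙 (Spec (CommRingCat.of k))) O) D.M (chΓ _ w) ≫ Chart.j D) * k₂, ?_⟩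
  rw [h, chΓ_mul, map_mul, MonObj.mul_comp, ← Category.assoc (dsEquiv _ ℤ _), dsEquiv_DSmap,
    MonObj.comp_mul, ← Category.assoc (tMap _ _) (dsEquiv _ _ _), tMap_dsEquiv]
  have h1 : (chΓ (𝟙 (Spec (CommRingCat.of k))) (TPt.cow (LinearMap.id : Module.Dual ℤ ℤ) u)).comp
      (AddMonoidHom.toMultiplicative y.toAddMonoidHom) =
      chΓ (𝟙 (Spec (CommRingCat.of k))) (TPt.cow y u) := rfl
  rw [h1]
  simp only [_root_.mul_assoc]

end cartan

section psi

variable {k : Type u} [Field k] {G H X : Over (Spec (CommRingCat.of k))} [GrpObj G] [GrpObj H]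

lemma lift_psi (a : AlgGrp.Action G X) {T : Over (Spec (CommRingCat.of k))} (g : T ⟶ G) (x : T ⟶ X) :
    lift g x ≫ GIT.psi a (𝟙 X) = lift (lift g x ≫ a.act) x := by
  rw [GIT.psi, comp_lift, lift_snd, ← Category.assoc, lift_whiskerLeft, Category.comp_id]

lemma psi_restrict (l : H ⟶ G) [IsMonHom l] (a : AlgGrp.Action G X) (b : AlgGrp.Action H X)
    (hb : b.act = (l ▷ X) ≫ a.act) : GIT.psi b (𝟙 X) = (l ▷ X) ≫ GIT.psi a (𝟙 X) := by
  apply AlgGrp.Action.hom_ext_lift₂
  intro T h x
  rw [lift_psi, lift_whiskerRight_assoc, lift_psi, hb, lift_whiskerRight_assoc]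

/-- restriction along a non-trivial one-parameter subgroup keeps properness -/
theorem proper_restrict [IsAffine G.left] [LocallyOfFiniteType G.hom] (a : AlgGrp.Action G X)
    (h : IsProper (GIT.psi a (𝟙 X)).left) (l : Red.Gm (Spec (CommRingCat.of k)) ⟶ G) [IsMonHom l]
    (hl : l ≠ toUnit _ ≫ η[G]) (b : AlgGrp.Action (Red.Gm (Spec (CommRingCat.of k))) X)
    (hb : b.act = (l ▷ X) ≫ a.act) : IsProper (GIT.psi b (𝟙 X)).left := by
  have hlp : IsProper l.left := isProper_of_ne l (by rwa [Hom.one_def])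
  have hlX : IsProper (l ▷ X).left :=
    MorphismProperty.of_isPullback (Groth.Agent.Sga3C.SchemImage.isPullback_whiskerRight_left l X).flip hlp
  rw [psi_restrict l a b hb, Over.comp_left]
  infer_instance

/-- the uniformiser is not a unit, so it is not an integral point of `𝔾_m` -/
lemma false_of_integral {O K : Type u} [CommRing O] [IsDomain O] [IsDiscreteValuationRing O] [Algebra k O]
    [Field K] [Algebra k K] [Algebra O K] [IsFractionRing O K] [IsScalarTower k O K]
    (π : O) (hπ : Irreducible π) (u : Kˣ) (hu : (u : K) = algebraMap O K π)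
    (t : tB (𝟙 (Spec (CommRingCat.of k))) O ⟶ Red.Gm (Spec (CommRingCat.of k)))
    (ht : tMap _ (inc k O K) ≫ t =
      dsEquiv (tB (𝟙 (Spec (CommRingCat.of k))) K) ℤ (chΓ _ (TPt.cow LinearMap.id u))) : False := by
  obtain ⟨w, rfl⟩ := exists_chΓ (𝟙 (Spec (CommRingCat.of k))) t
  rw [tMap_dsEquiv, EmbeddingLike.apply_eq_iff_eq] at ht
  have h1 := chΓ_injective _ ht
  have h2 := congrArg (fun s : TPt ℤ K => TPt.ch 1 s) h1
  have h3 : algebraMap O K (TPt.ch 1 w) = ((u ^ (1 : ℤ) : Kˣ) : K) := h2
  rw [zpow_one, hu] at h3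
  have h4 := IsFractionRing.injective O K h3
  exact hπ.not_isUnit (h4 ▸ TPt.isUnit_ch 1 w)

end psi

variable {k : Type u} [Field k] [IsAlgClosed k]

/-- **Properness of an action of a reductive group is detected on one-parameter subgroups.** -/
theorem proper_of_forall (G X : Over (Spec (CommRingCat.of k))) [GrpObj G] (hG : Red.IsReductive G)
    [LocallyOfFiniteType X.hom] [QuasiCompact X.hom] [IsSeparated X.hom] (a : AlgGrp.Action G X)
    (H : ∀ (l : Red.Gm (Spec (CommRingCat.of k)) ⟶ G) [IsMonHom l], l ≠ toUnit _ ≫ η[G] →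
        ∀ b : AlgGrp.Action (Red.Gm (Spec (CommRingCat.of k))) X, b.act = (l ▷ X) ≫ a.act →
          IsProper (GIT.psi b (𝟙 X)).left) :
    IsProper (GIT.psi a (𝟙 X)).left := by
  have hGa : IsAffineHom G.hom := hG.1
  have hGs : Smooth G.hom := hG.2.1
  have hGf : LocallyOfFiniteType G.hom := inferInstance
  have hGX : LocallyOfFiniteType (G ⊗ X).hom := by
    have : (G ⊗ X).hom = (snd G X).left ≫ X.hom := (Over.w (snd G X)).symm
    rw [this, Over.snd_left]
    infer_instance
  have hGXq : QuasiCompact (G ⊗ X).hom := by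
    have : (G ⊗ X).hom = (snd G X).left ≫ X.hom := (Over.w (snd G X)).symm
    rw [this, Over.snd_left]
    infer_instance
  have hGXs : IsSeparated (G ⊗ X).hom := by
    have : (G ⊗ X).hom = (snd G X).left ≫ X.hom := (Over.w (snd G X)).symm
    rw [this, Over.snd_left]
    infer_instance
  have hXX : LocallyOfFiniteType (X ⊗ X).hom := by
    have : (X ⊗ X).hom = (snd X X).left ≫ X.hom := (Over.w (snd X X)).symm
    rw [this, Over.snd_left]
    infer_instance
  have hXXs : IsSeparated (X ⊗ X).hom := by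
    have : (X ⊗ X).hom = (snd X X).left ≫ X.hom := (Over.w (snd X X)).symm
    rw [this, Over.snd_left]
    infer_instance
  have hXXn : IsLocallyNoetherian (X ⊗ X).left := LocallyOfFiniteType.isLocallyNoetherian (X ⊗ X).hom
  let ψ := GIT.psi a (𝟙 X)
  have hw : ψ.left ≫ (X ⊗ X).hom = (G ⊗ X).hom := Over.w ψ
  have hft : LocallyOfFiniteType ψ.left := by
    have : LocallyOfFiniteType (ψ.left ≫ (X ⊗ X).hom) := by rw [hw]; infer_instance
    exact locallyOfFiniteType_of_comp ψ.left (X ⊗ X).hom
  have hqc : QuasiCompact ψ.left := by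
    have : QuasiCompact (ψ.left ≫ (X ⊗ X).hom) := by rw [hw]; infer_instance
    exact QuasiCompact.of_comp ψ.left (X ⊗ X).hom
  have hsp : IsSeparated ψ.left := by
    have : IsSeparated (ψ.left ≫ (X ⊗ X).hom) := by rw [hw]; infer_instance
    exact IsSeparated.of_comp ψ.left (X ⊗ X).hom
  have huc : UniversallyClosed ψ.left := by
    apply Groth.Agent.Ega2.DVRCriterion.universallyClosed_of_DVRExistence
    apply dvrExistence_of
    intro O _ _ _ _ x y hxy
    obtain ⟨π, hπ⟩ := IsDiscreteValuationRing.exists_irreducible O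
    let K := FractionRing O
    have hπK : algebraMap O K π ≠ 0 := by
      intro h
      exact hπ.ne_zero (IsFractionRing.injective O K (by rw [map_zero]; exact h))
    let u : Kˣ := Units.mk0 _ hπK
    let j := tMap (𝟙 (Spec (CommRingCat.of k))) (inc k O K)
    let g := x ≫ fst G X
    let p := x ≫ snd G X
    let q := y ≫ snd X X
    let r := y ≫ fst X X
    have hx : x = lift g p := by
      rw [← comp_lift, lift_fst_snd, Category.comp_id]
    have hy : y = lift r q := by
      rw [← comp_lift, lift_fst_snd, Category.comp_id]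
    have hxy' : lift (lift g p ≫ a.act) p = lift (j ≫ r) (j ≫ q) := by
      rw [← lift_psi, ← hx, ← comp_lift, ← hy]
      exact hxy
    have hp : p = j ≫ q := by
      have := congrArg (fun z => z ≫ snd X X) hxy'
      simpa using this
    have hr : lift g p ≫ a.act = j ≫ r := by
      have := congrArg (fun z => z ≫ fst X X) hxy'
      simpa using this
    obtain ⟨l, hl, k₁, k₂, hg⟩ := cartan_sch hG π hπ u rfl g
    have key : l = toUnit _ ≫ η[G] := by
      by_contra hne
      let b := a.restrict l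
      have hb := H l hne b rfl
      let q₂ := lift k₂ q ≫ a.act
      let r₂ := lift k₁⁻¹ r ≫ a.act
      let v := dsEquiv (tB (𝟙 (Spec (CommRingCat.of k))) K) ℤ (chΓ _ (TPt.cow LinearMap.id u))
      obtain ⟨x₃, -, hx₃⟩ := exists_of_isProper (O := O) (K := K) (GIT.psi b (𝟙 X)) (lift v (j ≫ q₂))
        (lift r₂ q₂) (by
          rw [lift_psi, AlgGrp.Action.lift_restrict_act, comp_lift]
          congr 1
          have e1 : j ≫ q₂ = lift (j ≫ k₂) (j ≫ q) ≫ a.act := by
            rw [← Category.assoc, comp_lift]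
          have e2 : j ≫ r₂ = lift (j ≫ k₁)⁻¹ (j ≫ r) ≫ a.act := by
            rw [← Category.assoc, comp_lift, comp_inv]
          change lift (v ≫ l) (j ≫ q₂) ≫ a.act = j ≫ r₂
          rw [e1, e2, ← hr, hp, ← AlgGrp.Action.lift_mul_act, ← AlgGrp.Action.lift_mul_act, hg]
          congr 2
          change v ≫ l * j ≫ k₂ = (j ≫ k₁)⁻¹ * ((j ≫ k₁) * (v ≫ l) * (j ≫ k₂))
          group)
      refine false_of_integral (K := K) π hπ u rfl (x₃ ≫ fst _ _) ?_
      rw [← Category.assoc]
      change (j ≫ x₃) ≫ _ = _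
      rw [hx₃, lift_fst]
    have hg' : g = j ≫ (k₁ * k₂) := by
      rw [hg, key, MonObj.comp_mul]
      congr 1
      rw [← Hom.one_def, comp_one, _root_.mul_one]
    have hl₁ : j ≫ lift (k₁ * k₂) q = x := by
      rw [comp_lift, hx, ← hg', ← hp]
    refine ⟨lift (k₁ * k₂) q, ?_, hl₁⟩
    apply eq_of_tMap (K := K)
    change j ≫ _ = j ≫ _
    rw [← Category.assoc, hl₁]
    exact hxy
  exact {}

end K209.PsiProper
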