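import Groth.Agent.GIT.K209.Dict
import Groth.Agent.Ega2.DVRCriterion

/-!
# Valuative criteria for morphisms of schemes over a field, with `k`-algebras
-/

set_option autoImplicit false
set_option linter.unusedSectionVars false
universe u

open CategoryTheory MonoidalCategory CartesianMonoidalCategory MonObj GrpObj AlgebraicGeometry

namespace K209.Val

open Groth.Agent.Sga3B Groth.Agent.Sga3B.PinMod Groth.Agent.Ega2.DVRCriterion
open Groth.Agent.RedSub.H660.Iwasawa (inc)

variable {k : Type u} [CommRing k]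

/-- the valuative criterion of existence for discrete valuation rings, with algebras -/
def AlgDVR {X Y : Over (Spec (CommRingCat.of k))} (f : X ⟶ Y) : Prop :=
  ∀ (O : Type u) [CommRing O] [IsDomain O] [IsDiscreteValuationRing O] [Algebra k O]
    (x : tB (𝟙 (Spec (CommRingCat.of k))) (FractionRing O) ⟶ X)
    (y : tB (𝟙 (Spec (CommRingCat.of k))) O ⟶ Y),
    x ≫ f = tMap _ (inc k O (FractionRing O)) ≫ y →
    ∃ l : tB (𝟙 (Spec (CommRingCat.of k))) O ⟶ X, l ≫ f = y ∧ tMap _ (inc k O (FractionRing O)) ≫ l = x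

theorem dvrExistence_of {X Y : Over (Spec (CommRingCat.of k))} (f : X ⟶ Y) (H : AlgDVR f) :
    DVRExistence f.left := by
  intro O _ _ _ x y hxy
  obtain ⟨φ, hφ⟩ : ∃ φ : k →+* O, Spec.map (CommRingCat.ofHom φ) = y ≫ Y.hom :=
    ⟨(Spec.preimage (y ≫ Y.hom)).hom, Spec.map_preimage _⟩
  let _ : Algebra k O := φ.toAlgebra
  have hφ' : Spec.map (CommRingCat.ofHom (algebraMap k O)) = y ≫ Y.hom := hφ
  let y' : tB (𝟙 (Spec (CommRingCat.of k))) O ⟶ Y := Over.homMk y (by
    change _ = Spec.map (CommRingCat.ofHom (algebraMap k O)) ≫ 𝟙 _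
    rw [Category.comp_id, hφ'])
  let x' : tB (𝟙 (Spec (CommRingCat.of k))) (FractionRing O) ⟶ X := Over.homMk x (by
    change _ = Spec.map (CommRingCat.ofHom (algebraMap k (FractionRing O))) ≫ 𝟙 _
    rw [Category.comp_id, ← Over.w f, ← Category.assoc]
    change (x ≫ f.left) ≫ Y.hom = _
    rw [hxy, Category.assoc, ← hφ', ← Spec.map_comp, ← CommRingCat.ofHom_comp])
  obtain ⟨l, hl, hl'⟩ := H O x' y' (by
    ext1
    exact hxy)
  exact ⟨l.left, congrArg CommaMorphism.left hl, congrArg CommaMorphism.left hl'⟩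

/-- separatedness -/
theorem eq_of_tMap {X : Over (Spec (CommRingCat.of k))} [IsSeparated X.hom]
    {O K : Type u} [CommRing O] [IsDomain O] [Algebra k O]
    [Field K] [Algebra k K] [Algebra O K] [IsFractionRing O K] [IsScalarTower k O K]
    {p q : tB (𝟙 (Spec (CommRingCat.of k))) O ⟶ X}
    (h : tMap _ (inc k O K) ≫ p = tMap _ (inc k O K) ≫ q) : p = q := by
  ext1
  have hdom : IsDominant (Spec.map (CommRingCat.ofHom (algebraMap O K))) := by
    rw [isDominant_iff]
    have : DenseRange (PrimeSpectrum.comap (algebraMap O K)) := by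
      rw [PrimeSpectrum.denseRange_comap_iff_ker_le_nilRadical]
      rw [(RingHom.injective_iff_ker_eq_bot _).1 (IsFractionRing.injective O K)]
      exact bot_le
    exact this
  have hred : IsReduced (Spec (CommRingCat.of O)) := inferInstance
  exact @ext_of_isDominant_of_isSeparated _ _ _ _ hred _ _ X.hom _ ((Over.w p).trans (Over.w q).symm)
    (Spec.map (CommRingCat.ofHom (algebraMap O K))) hdom (congrArg CommaMorphism.left h)

/-- the valuative criterion for proper morphisms -/
theorem exists_of_isProper {X Y : Over (Spec (CommRingCat.of k))} (f : X ⟶ Y) [IsProper f.left]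
    {O K : Type u} [CommRing O] [IsDomain O] [ValuationRing O] [Algebra k O]
    [Field K] [Algebra k K] [Algebra O K] [IsFractionRing O K] [IsScalarTower k O K]
    (x : tB (𝟙 (Spec (CommRingCat.of k))) K ⟶ X)
    (y : tB (𝟙 (Spec (CommRingCat.of k))) O ⟶ Y)
    (h : x ≫ f = tMap _ (inc k O K) ≫ y) :
    ∃ l : tB (𝟙 (Spec (CommRingCat.of k))) O ⟶ X, l ≫ f = y ∧ tMap _ (inc k O K) ≫ l = x := by
  have hE : ValuativeCriterion.Existence f.left := by
    have : UniversallyClosed f.left := inferInstance
    rw [UniversallyClosed.eq_valuativeCriterion] at this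
    exact this.1
  let sq : ValuativeCommSq f.left :=
    ValuativeCommSq.mk (R := O) (K := K) x.left y.left ⟨congrArg CommaMorphism.left h⟩
  obtain ⟨⟨l, h1, h2⟩⟩ := (hE sq).exists_lift
  refine ⟨Over.homMk l ?_, ?_, ?_⟩
  · rw [← Over.w f, ← Category.assoc, h2]
    exact Over.w y
  · ext1
    exact h2
  · ext1
    exact h1

end K209.Val
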